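import Mathlib
import Cfsg.Prelude.Def_GeometricClasses
import Cfsg.Agent.Lib.Helper27.ASC.Defs
import Cfsg.Agent.Lib.Helper26.SPXCOVER
import Cfsg.Agent.Lib.Helper26.SPXPR1
import Cfsg.Agent.Lib.Helper25.SPXPR2
import Cfsg.Agent.Lib.Helper20.SPXPR3
import Cfsg.Agent.Lib.Helper29.SPXPR4
import Cfsg.Agent.Lib.Helper25.SPXPR5
import Cfsg.Agent.Lib.Helper13.SPXPR8
import Cfsg.Agent.Lib.helper15.SPXNDEVEN
import Cfsg.Agent.Lib.helper15.SPXDECCARD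
import Cfsg.Agent.Lib.helper15.SPXSYMPEVEN
import Cfsg.Agent.Lib.helper6.SPXFSADIM
import Cfsg.Agent.Lib.Helper29.SPXTWOPOW
import Cfsg.Agent.Lib.helper6.SPXPL2Q
import Cfsg.Agent.Lib.helper6.SPXT3Q3
import Cfsg.Agent.Lib.helper6.Symp

/-!
# Project SPX : assembly
-/

set_option autoImplicit false
set_option linter.unusedVariables false
set_option linter.unusedSectionVars false

namespace Cfsg.Agent.Lib.helper6.SPX

open Cfsg Cfsg.Geo Cfsg.Agent.Lib.Helper27.ASC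
open scoped MatrixGroups Matrix Kronecker

variable {m : ℕ} {F : Type*} [Field F] [Fintype F]

/-- The frozen statement of S5662 in dimension `2m`. -/
def ASPStmt (m : ℕ) (F : Type*) [Field F] [Fintype F] : Prop :=
  ∀ H : Subgroup (GL (Fin m ⊕ Fin m) F), H ≤ spGL m F →
    H ⊔ (scalars (Fin m ⊕ Fin m) F ⊓ spGL m F) ≠ spGL m F →
    (∃ M : Subgroup (GL (Fin m ⊕ Fin m) F), InSymplecticClass m F M ∧ H ≤ M) ∨ InSymplecticResidualClass H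

/-- The refined conclusion for a maximal subgroup of `Sp_2m` (classes 6 and 7 are kept as containments). -/
def SPConcl (m : ℕ) (F : Type*) [Field F] [Fintype F] (H : Subgroup (GL (Fin m ⊕ Fin m) F)) : Prop :=
  (∃ W : Submodule F (Fin m ⊕ Fin m → F), W ≠ ⊥ ∧ IsTotallySingularFor (sympForm m F) W ∧
    H = subspaceStabilizer W ⊓ spGL m F) ∨
  (∃ W : Submodule F (Fin m ⊕ Fin m → F), W ≠ ⊥ ∧ IsNondegenerateOn (sympForm m F) W ∧ Module.finrank F W < m ∧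
    H = subspaceStabilizer W ⊓ spGL m F) ∨
  (∃ (t k : ℕ) (D : Fin t → Submodule F (Fin m ⊕ Fin m → F)), IsNondegenerateMDecomposition (sympForm m F) k D ∧
    H = decompositionStabilizer D ⊓ spGL m F) ∨
  (∃ (D : Fin 2 → Submodule F (Fin m ⊕ Fin m → F)), Odd (Fintype.card F) ∧ IsMDecomposition m D ∧
    (∀ i, IsTotallySingularFor (sympForm m F) (D i)) ∧ H = decompositionStabilizer D ⊓ spGL m F) ∨
  (∃ (F₀ : Subfield F) (r : ℕ) (P : GL (Fin m ⊕ Fin m) F) (ζ : F), r.Prime ∧ Fintype.card F = Nat.card F₀ ^ r ∧ ζ ≠ 0 ∧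
    IsFormRationalStructure (sympForm m F) F₀ ζ P ∧ H = subfieldSubgroup F₀ P ⊓ spGL m F) ∨
  (∃ (R : Subgroup (GL (Fin m ⊕ Fin m) F)) (p k : ℕ), IsSymplecticTypeGroup 2 R ∧
    ActsAbsolutelyIrreducibly (matrixSet R) ∧ R ≤ similarityGroup (sympForm m F) ∧ p.Prime ∧ Odd p ∧ Fintype.card F = p ∧
    Nat.card R = 2 ^ (1 + 2 * k) ∧ Nat.card (Subgroup.center R) = 2 ∧ IsOfMinusType k R ∧
    H ≤ subgroupNormalizer R ⊓ spGL m F) ∨
  (∃ Q : (Fin m ⊕ Fin m → F) → F, ¬ Odd (Fintype.card F) ∧ IsNondegenerateQuadraticForm Q ∧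
    (∀ u v, QuadraticMap.polar Q u v = sympForm m F u v) ∧ H = quadSimilarityGroup Q ⊓ spGL m F) ∨
  (∃ (r : ℕ) (K : Subalgebra F (Matrix (Fin m ⊕ Fin m) (Fin m ⊕ Fin m) F)), r.Prime ∧ IsFieldSubalgebra r K ∧
    IsSelfAdjointFor (sympForm m F) K ∧ (∀ k ∈ K, ∀ v, sympForm m F (k *ᵥ v) v = 0) ∧
    H = subalgebraNormalizer K ⊓ spGL m F) ∨
  (∃ K : Subalgebra F (Matrix (Fin m ⊕ Fin m) (Fin m ⊕ Fin m) F), Odd (Fintype.card F) ∧ IsFieldSubalgebra 2 K ∧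
    IsAdjointClosedFor (sympForm m F) K ∧ ¬ IsSelfAdjointFor (sympForm m F) K ∧
    H = subalgebraNormalizer K ⊓ spGL m F) ∨
  (∃ (n₁ n₂ : ℕ) (e : (Fin m ⊕ Fin m) ≃ Fin n₁ × Fin n₂) (P : GL (Fin m ⊕ Fin m) F)
    (f₁ : (Fin n₁ → F) → (Fin n₁ → F) → F) (f₂ : (Fin n₂ → F) → (Fin n₂ → F) → F),
    Odd (Fintype.card F) ∧ 3 ≤ n₂ ∧ IsSymplecticForm f₁ ∧ IsSymmetricForm f₂ ∧
    IsTensorFormStructure id (sympForm m F) f₁ f₂ e P ∧ H = tensorProductSubgroup n₁ n₂ e P ⊓ spGL m F) ∨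
  (∃ (k t : ℕ) (e : (Fin m ⊕ Fin m) ≃ (Fin t → Fin k)) (P : GL (Fin m ⊕ Fin m) F) (f₁ : (Fin k → F) → (Fin k → F) → F),
    Odd (Fintype.card F) ∧ Odd t ∧ 3 ≤ t ∧ ¬ (Fintype.card F = 3 ∧ k = 2) ∧ IsSymplecticForm f₁ ∧
    IsTensorPowerFormStructure id (sympForm m F) f₁ e P ∧ H ≤ tensorWreathSubgroup k t e P ⊓ spGL m F) ∨
  InSymplecticResidualClass H

/-- a subfield of prime index is proper -/
theorem spx_ne_top_of_card_pow {F₁ : Subfield F} {ℓ : ℕ} (hℓ : ℓ.Prime) (h : Fintype.card F = Nat.card F₁ ^ ℓ) :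
    F₁ ≠ ⊤ := by
  rintro rfl
  have h1 : Nat.card (⊤ : Subfield F) = Fintype.card F := by
    rw [← Nat.card_eq_fintype_card]
    exact Nat.card_congr (Subfield.topEquiv (K := F)).toEquiv
  rw [h1] at h
  have h2 : 1 < Fintype.card F := Fintype.one_lt_card
  have h3 : 2 ≤ ℓ := hℓ.two_le
  have : Fintype.card F ^ 1 < Fintype.card F ^ ℓ := Nat.pow_lt_pow_right h2 (by omega)
  rw [pow_one] at this
  omega

/-- the cardinality of the index set of a tensor decomposition -/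
theorem spx_tensor_card {n₁ n₂ : ℕ} (e : (Fin m ⊕ Fin m) ≃ Fin n₁ × Fin n₂) : 2 * m = n₁ * n₂ := by
  have := Fintype.card_congr e
  simp only [Fintype.card_sum, Fintype.card_fin, Fintype.card_prod] at this
  omega

/-- the cardinality of the index set of a tensor-power decomposition -/
theorem spx_wreath_card {k t : ℕ} (e : (Fin m ⊕ Fin m) ≃ (Fin t → Fin k)) : 2 * m = k ^ t := by
  have := Fintype.card_congr e
  simp only [Fintype.card_sum, Fintype.card_fin, Fintype.card_pi, Finset.prod_const, Finset.card_univ] at this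
  omega

/-- the whole space is not totally isotropic -/
theorem spx_ts_ne_top (hm : 1 ≤ m) (W : Submodule F (Fin m ⊕ Fin m → F))
    (hW : IsTotallySingularFor (sympForm m F) W) : W ≠ ⊤ := by
  rintro rfl
  have hne : (Pi.single (Sum.inl (⟨0, by omega⟩ : Fin m)) (1 : F) : Fin m ⊕ Fin m → F) ≠ 0 := by
    intro h
    have := congrFun h (Sum.inl (⟨0, by omega⟩ : Fin m))
    simp at this
  obtain ⟨x, hx⟩ := Cfsg.Agent.Lib.helper6.sympForm_nondeg m _ hne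
  exact hx (hW _ Submodule.mem_top _ Submodule.mem_top)

/-- a non-zero subspace on which the form is non-degenerate has dimension at least two -/
theorem spx_nd_two_le (W : Submodule F (Fin m ⊕ Fin m → F)) (h0 : W ≠ ⊥)
    (hW : IsNondegenerateOn (sympForm m F) W) : 2 ≤ Module.finrank F W := by
  have he := nd_even W hW
  have hpos : 0 < Module.finrank F W := by
    rw [Module.finrank_pos_iff_exists_ne_zero]
    obtain ⟨w, hw, hw0⟩ := (Submodule.ne_bot_iff W).mp h0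
    exact ⟨⟨w, hw⟩, fun h => hw0 (congrArg Subtype.val h)⟩
  obtain ⟨a, ha⟩ := he
  omega

/-- a symplectic form lives in dimension at least two, if the dimension is positive -/
theorem spx_symp_two_le {n₁ : ℕ} (f₁ : (Fin n₁ → F) → (Fin n₁ → F) → F) (hf₁ : IsSymplecticForm f₁)
    (h0 : 0 < n₁) : 2 ≤ n₁ := by
  obtain ⟨a, ha⟩ := symp_even f₁ hf₁
  omega

/-- SPMAX : a maximal subgroup of `Sp_2m` is the intersection of `Sp_2m` with a member of a class, or residual. -/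
theorem sp_max (h : 3 ≤ m ∨ (m = 2 ∧ 3 ≤ Fintype.card F)) (hASP : ASPStmt m F)
    {H : Subgroup (GL (Fin m ⊕ Fin m) F)} (hH : IsMaximalIn (spGL m F) H) : SPConcl m F H := by
  have hm2 : 2 ≤ m := by omega
  rcases hASP H hH.1.le (sp_max_not_cover h hH) with ⟨M, hM, hle⟩ | hres
  · rcases hM with (⟨W, h0, hW, rfl⟩ | ⟨W, h0, hW, hd, rfl⟩ | ⟨t, k, D, hD, rfl⟩ | ⟨D, ho, hD, hts, rfl⟩ |
      ⟨F₀, r, P, ζ, hr, hc, hζ, hrat, rfl⟩ | ⟨R, p, k, h1, h2, h3, h4, h5, h6, h7, h8, h9, rfl⟩ |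
      ⟨Q, he, hQ, hpol, rfl⟩) | ⟨r, K, hr, hK, hsa, halt, rfl⟩ | ⟨K, ho, hK, hac, hnsa, rfl⟩ |
      ⟨n₁, n₂, e, P, f₁, f₂, ho, h3, hf₁, hf₂, hT, rfl⟩ | ⟨k, t, e, P, f₁, ho, hto, h3, hex, hf₁, hT, rfl⟩
    · exact Or.inl ⟨W, h0, hW, max_principle hH (hle.trans inf_le_left)
        (pr_sp_subspace W h0 (spx_ts_ne_top (by omega) W hW))⟩
    · have h1 : W ≠ ⊤ := fun h => by
        rw [h, finrank_top, Module.finrank_fintype_fun_eq_card] at hd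
        simp only [Fintype.card_sum, Fintype.card_fin] at hd
        omega
      exact Or.inr (Or.inl ⟨W, h0, hW, hd, max_principle hH (hle.trans inf_le_left) (pr_sp_subspace W h0 h1)⟩)
    · have hk : 2 ≤ k := by
        have h1 := hD.decomp.finrank_eq ⟨0, by have := hD.decomp.two_le; omega⟩
        have h2 : D ⟨0, by have := hD.decomp.two_le; omega⟩ ≠ ⊥ := by
          intro h
          rw [h, finrank_bot] at h1
          have := hD.decomp.pos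
          omega
        have := spx_nd_two_le _ h2 (hD.nondegenerate _)
        omega
      exact Or.inr (Or.inr (Or.inl ⟨t, k, D, hD, max_principle hH (hle.trans inf_le_left)
        (pr_sp_dec D hD.decomp hk)⟩))
    · exact Or.inr (Or.inr (Or.inr (Or.inl ⟨D, ho, hD, hts, max_principle hH (hle.trans inf_le_left)
        (pr_sp_dec D hD hm2)⟩)))
    · exact Or.inr (Or.inr (Or.inr (Or.inr (Or.inl ⟨F₀, r, P, ζ, hr, hc, hζ, hrat,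
        max_principle hH (hle.trans inf_le_left)
          (pr_sp_subfield (by omega) F₀ (spx_ne_top_of_card_pow hr hc) P)⟩))))
    · exact Or.inr (Or.inr (Or.inr (Or.inr (Or.inr (Or.inl ⟨R, p, k, h1, h2, h3, h4, h5, h6, h7, h8, h9, hle⟩)))))
    · exact Or.inr (Or.inr (Or.inr (Or.inr (Or.inr (Or.inr (Or.inl ⟨Q, he, hQ, hpol,
        max_principle hH (hle.trans inf_le_left) (pr_sp_quad hm2 Q hQ hpol)⟩))))))
    · exact Or.inr (Or.inr (Or.inr (Or.inr (Or.inr (Or.inr (Or.inr (Or.inl ⟨r, K, hr, hK, hsa, halt,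
        max_principle hH (hle.trans inf_le_left) (pr_sp_field hm2 hr.two_le K hK)⟩)))))))
    · exact Or.inr (Or.inr (Or.inr (Or.inr (Or.inr (Or.inr (Or.inr (Or.inr (Or.inl ⟨K, ho, hK, hac, hnsa,
        max_principle hH (hle.trans inf_le_left) (pr_sp_field hm2 (le_refl 2) K hK)⟩))))))))
    · have hcard := spx_tensor_card e
      have hn1 : 2 ≤ n₁ := spx_symp_two_le f₁ hf₁ (by
        rcases Nat.eq_zero_or_pos n₁ with h0 | h0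
        · rw [h0, zero_mul] at hcard; omega
        · exact h0)
      exact Or.inr (Or.inr (Or.inr (Or.inr (Or.inr (Or.inr (Or.inr (Or.inr (Or.inr (Or.inl
        ⟨n₁, n₂, e, P, f₁, f₂, ho, h3, hf₁, hf₂, hT,
          max_principle hH (hle.trans inf_le_left) (pr_sp_tensor hn1 (by omega) e P)⟩)))))))))
    · exact Or.inr (Or.inr (Or.inr (Or.inr (Or.inr (Or.inr (Or.inr (Or.inr (Or.inr (Or.inr (Or.inl
        ⟨k, t, e, P, f₁, ho, hto, h3, hex, hf₁, hT, hle⟩))))))))))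
  · exact Or.inr (Or.inr (Or.inr (Or.inr (Or.inr (Or.inr (Or.inr (Or.inr (Or.inr (Or.inr (Or.inr hres))))))))))

/-! ## Helpers for the rows -/

/-- class 6 forces `2m` to be a power of two -/
theorem spx_class6_pow (hm : 1 ≤ m) (R : Subgroup (GL (Fin m ⊕ Fin m) F)) (k : ℕ) (h1 : IsSymplecticTypeGroup 2 R)
    (h2 : ActsAbsolutelyIrreducibly (matrixSet R)) (h7 : Nat.card R = 2 ^ (1 + 2 * k)) :
    ∃ a : ℕ, 2 * m = 2 ^ a := by
  haveI : Finite R := Nat.finite_of_card_ne_zero (by rw [h7]; positivity)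
  have htop : (⊤ : Submodule F (Fin m ⊕ Fin m → F)) ≠ ⊥ := by
    intro h
    have h3 : Module.finrank F (⊤ : Submodule F (Fin m ⊕ Fin m → F)) = 0 := by rw [h, finrank_bot]
    rw [finrank_top, Module.finrank_fintype_fun_eq_card] at h3
    simp only [Fintype.card_sum, Fintype.card_fin] at h3
    omega
  obtain ⟨a, ha⟩ := two_group_irr_dim R h1.pGroup ⊤ htop (fun g _ => le_top)
    (fun U _ hU => h2.1 U (by
      rintro s ⟨g, hg, rfl⟩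
      exact hU g hg))
  refine ⟨a, ?_⟩
  rw [finrank_top, Module.finrank_fintype_fun_eq_card] at ha
  simp only [Fintype.card_sum, Fintype.card_fin] at ha
  omega

/-- no perfect `t`-th power, `t ≥ 3`, among `4, 6, 10, 12` -/
theorem spx_not_pow {k t : ℕ} (ht : 3 ≤ t) : k ^ t ≠ 4 ∧ k ^ t ≠ 6 ∧ k ^ t ≠ 10 ∧ k ^ t ≠ 12 := by
  rcases Nat.lt_or_ge k 2 with hk | hk
  · interval_cases k
    · rw [zero_pow (by omega)]; omega
    · rw [one_pow]; omega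
  · rcases Nat.lt_or_ge k 3 with hk3 | hk3
    · have hk2 : k = 2 := by omega
      subst hk2
      rcases Nat.lt_or_ge t 4 with h4 | h4
      · have : t = 3 := by omega
        subst this
        norm_num
      · have : 2 ^ 4 ≤ 2 ^ t := Nat.pow_le_pow_right (by norm_num) h4
        omega
    · have h1 : 3 ^ 3 ≤ k ^ 3 := Nat.pow_le_pow_left hk3 3
      have h2 : k ^ 3 ≤ k ^ t := Nat.pow_le_pow_right (by omega) ht
      omega

/-- a power of two is none of `6, 10, 12` -/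
theorem spx_two_pow_ne (a : ℕ) : 2 ^ a ≠ 6 ∧ 2 ^ a ≠ 10 ∧ 2 ^ a ≠ 12 := by
  rcases Nat.lt_or_ge a 4 with h | h
  · interval_cases a <;> norm_num
  · have : 2 ^ 4 ≤ 2 ^ a := Nat.pow_le_pow_right (by norm_num) h
    omega

/-- an odd field order below 5 is 3 -/
theorem spx_card_three (ho : Odd (Fintype.card F)) (h5 : ¬ 5 ≤ Fintype.card F) : Fintype.card F = 3 := by
  have h1 : 1 < Fintype.card F := Fintype.one_lt_card
  obtain ⟨a, ha⟩ := ho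
  omega

/-- a field order below 3 is 2 -/
theorem spx_card_two (h3 : ¬ 3 ≤ Fintype.card F) : Fintype.card F = 2 := by
  have h1 : 1 < Fintype.card F := Fintype.one_lt_card
  omega

/-- planes over the field with two elements: the maximal subgroup is an orthogonal group -/
theorem spx_planes2 (hm : 2 ≤ m) {H : Subgroup (GL (Fin m ⊕ Fin m) F)} (hH : IsMaximalIn (spGL m F) H) {t : ℕ}
    (D : Fin t → Submodule F (Fin m ⊕ Fin m → F)) (hD : IsNondegenerateMDecomposition (sympForm m F) 2 D)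
    (hHD : H = decompositionStabilizer D ⊓ spGL m F) (hq : ¬ 3 ≤ Fintype.card F) :
    ¬ Odd (Fintype.card F) ∧ ∃ Q : (Fin m ⊕ Fin m → F) → F, IsNondegenerateQuadraticForm Q ∧
      (∀ u v : (Fin m ⊕ Fin m → F), QuadraticMap.polar Q u v = sympForm m F u v) ∧
      H = quadSimilarityGroup Q ⊓ spGL m F := by
  have h2 := spx_card_two hq
  obtain ⟨Q, hQ, hpol, hle⟩ := planes_q2_quad D hD h2
  refine ⟨by rw [h2]; decide, Q, hQ, hpol, max_principle hH (hHD ▸ hle) (pr_sp_quad hm Q hQ hpol)⟩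

/-- tensor decompositions `n₁ ⊗ 3` over the field with three elements: the maximal subgroup is imprimitive -/
theorem spx_tensor3 {H : Subgroup (GL (Fin m ⊕ Fin m) F)} (hH : IsMaximalIn (spGL m F) H) {n₁ : ℕ} (hn₁ : 2 ≤ n₁)
    (e : (Fin m ⊕ Fin m) ≃ Fin n₁ × Fin 3) (P : GL (Fin m ⊕ Fin m) F)
    (f₁ : (Fin n₁ → F) → (Fin n₁ → F) → F) (f₂ : (Fin 3 → F) → (Fin 3 → F) → F)
    (hf₁ : IsSymplecticForm f₁) (hf₂ : IsSymmetricForm f₂)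
    (hT : IsTensorFormStructure id (sympForm m F) f₁ f₂ e P)
    (hHT : H = tensorProductSubgroup n₁ 3 e P ⊓ spGL m F) (ho : Odd (Fintype.card F))
    (hq : ¬ 5 ≤ Fintype.card F) :
    3 ≤ Fintype.card F ∧ ∃ D : Fin 3 → Submodule F (Fin m ⊕ Fin m → F),
      IsNondegenerateMDecomposition (sympForm m F) n₁ D ∧ H = decompositionStabilizer D ⊓ spGL m F := by
  have h3 := spx_card_three ho hq
  obtain ⟨D, hD, hle⟩ := tensor3_q3_dec h3 (by omega) e P f₁ f₂ hf₁ hf₂ hT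
  exact ⟨by omega, D, hD, max_principle hH (hHT ▸ hle) (pr_sp_dec D hD.decomp hn₁)⟩

/-- factorisations `t * k = N` with `k` even -/
theorem spx_arith {N t k : ℕ} (hN : 0 < N) (hc : t * k = N) : k ≤ N ∧ t ≤ N := by
  constructor
  · exact Nat.le_of_dvd hN ⟨t, by rw [mul_comm]; exact hc.symm⟩
  · exact Nat.le_of_dvd hN ⟨k, hc.symm⟩

theorem spx_arith4 {t k : ℕ} (hc : t * k = 2 * 2) (ht : 2 ≤ t) (hk : 2 ≤ k) : t = 2 ∧ k = 2 := by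
  obtain ⟨h1, h2⟩ := spx_arith (by norm_num) hc
  interval_cases k <;> interval_cases t <;> simp_all

theorem spx_arith6 {t k : ℕ} (hc : t * k = 2 * 3) (ht : 2 ≤ t) (hk : 2 ≤ k) (he : Even k) : t = 3 ∧ k = 2 := by
  obtain ⟨h1, h2⟩ := spx_arith (by norm_num) hc
  interval_cases k <;> interval_cases t <;> simp_all (config := { decide := true })

theorem spx_arith10 {t k : ℕ} (hc : t * k = 2 * 5) (ht : 2 ≤ t) (hk : 2 ≤ k) (he : Even k) : t = 5 ∧ k = 2 := by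
  obtain ⟨h1, h2⟩ := spx_arith (by norm_num) hc
  interval_cases k <;> interval_cases t <;> simp_all (config := { decide := true })

theorem spx_arith12 {t k : ℕ} (hc : t * k = 2 * 6) (ht : 2 ≤ t) (hk : 2 ≤ k) (he : Even k) :
    (t = 6 ∧ k = 2) ∨ (t = 3 ∧ k = 4) ∨ (t = 2 ∧ k = 6) := by
  obtain ⟨h1, h2⟩ := spx_arith (by norm_num) hc
  interval_cases k <;> interval_cases t <;> simp_all (config := { decide := true })

theorem spx_tarith4 {n₁ n₂ : ℕ} (hc : 2 * 2 = n₁ * n₂) (he : Even n₁) (h3 : 3 ≤ n₂) : False := by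
  obtain ⟨h1, h2⟩ := spx_arith (by norm_num) hc.symm
  interval_cases n₂ <;> interval_cases n₁ <;> simp_all (config := { decide := true })

theorem spx_tarith6 {n₁ n₂ : ℕ} (hc : 2 * 3 = n₁ * n₂) (he : Even n₁) (h3 : 3 ≤ n₂) : n₁ = 2 ∧ n₂ = 3 := by
  obtain ⟨h1, h2⟩ := spx_arith (by norm_num) hc.symm
  interval_cases n₂ <;> interval_cases n₁ <;> simp_all (config := { decide := true })

theorem spx_tarith10 {n₁ n₂ : ℕ} (hc : 2 * 5 = n₁ * n₂) (he : Even n₁) (h3 : 3 ≤ n₂) : n₁ = 2 ∧ n₂ = 5 := by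
  obtain ⟨h1, h2⟩ := spx_arith (by norm_num) hc.symm
  interval_cases n₂ <;> interval_cases n₁ <;> simp_all (config := { decide := true })

theorem spx_tarith12 {n₁ n₂ : ℕ} (hc : 2 * 6 = n₁ * n₂) (he : Even n₁) (h3 : 3 ≤ n₂) :
    (n₁ = 2 ∧ n₂ = 6) ∨ (n₁ = 4 ∧ n₂ = 3) := by
  obtain ⟨h1, h2⟩ := spx_arith (by norm_num) hc.symm
  interval_cases n₂ <;> interval_cases n₁ <;> simp_all (config := { decide := true })

/-! ## The rows -/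

/-- `Sp_4(q)`, `q ≥ 4` even (S5790) -/
theorem spx4e (hASP : ASPStmt 2 F) (heven : ¬ Odd (Fintype.card F)) (h4 : 4 ≤ Fintype.card F)
    (H : Subgroup (GL (Fin 2 ⊕ Fin 2) F)) (hH : IsMaximalIn (spGL 2 F) H) :
    (∃ W : Submodule F (Fin 2 ⊕ Fin 2 → F), W ≠ ⊥ ∧ IsTotallySingularFor (sympForm 2 F) W ∧ H = subspaceStabilizer W ⊓ spGL 2 F) ∨
    (∃ D : Fin 2 → Submodule F (Fin 2 ⊕ Fin 2 → F), IsNondegenerateMDecomposition (sympForm 2 F) 2 D ∧ H = decompositionStabilizer D ⊓ spGL 2 F) ∨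
    (∃ K : Subalgebra F (Matrix (Fin 2 ⊕ Fin 2) (Fin 2 ⊕ Fin 2) F), IsFieldSubalgebra 2 K ∧ IsSelfAdjointFor (sympForm 2 F) K ∧ (∀ k ∈ K, ∀ v : (Fin 2 ⊕ Fin 2 → F), (sympForm 2 F) (Matrix.mulVec k v) v = 0) ∧ H = subalgebraNormalizer K ⊓ spGL 2 F) ∨
    (∃ (F₀ : Subfield F) (r : ℕ) (P : GL (Fin 2 ⊕ Fin 2) F) (ζ : F), r.Prime ∧ Fintype.card F = Nat.card F₀ ^ r ∧ ζ ≠ 0 ∧ IsFormRationalStructure (sympForm 2 F) F₀ ζ P ∧ H = subfieldSubgroup F₀ P ⊓ spGL 2 F) ∨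
    (∃ Q : (Fin 2 ⊕ Fin 2 → F) → F, IsNondegenerateQuadraticForm Q ∧ (∀ u v : (Fin 2 ⊕ Fin 2 → F), QuadraticMap.polar Q u v = (sympForm 2 F) u v) ∧ H = quadSimilarityGroup Q ⊓ spGL 2 F) ∨
    InSymplecticResidualClass H := by
  rcases sp_max (Or.inr ⟨rfl, by omega⟩) hASP hH with ⟨W, h0, hW, hHW⟩ | ⟨W, h0, hW, hd, hHW⟩ | ⟨t, k, D, hD, hHD⟩ |
    ⟨D, ho, hD, hts, hHD⟩ | ⟨F₀, r, P, ζ, hr, hc, hζ, hrat, hHS⟩ | ⟨R, p, k, h1, h2, h3, h4', h5, h6, h7, h8, h9, hle⟩ |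
    ⟨Q, he, hQ, hpol, hHQ⟩ | ⟨r, K, hr, hK, hsa, halt, hHK⟩ | ⟨K, ho, hK, hac, hnsa, hHK⟩ |
    ⟨n₁, n₂, e, P, f₁, f₂, ho, h3, hf₁, hf₂, hT, hHT⟩ | ⟨k, t, e, P, f₁, ho, hto, h3, hex, hf₁, hT, hle⟩ | hres
  · exact Or.inl ⟨W, h0, hW, hHW⟩
  · have := spx_nd_two_le W h0 hW
    omega
  · have hc := dec_card D hD.decomp
    have ht := hD.decomp.two_le
    have hk : 2 ≤ k := by
      have h1 := hD.decomp.finrank_eq ⟨0, by omega⟩
      have h2 : D ⟨0, by omega⟩ ≠ ⊥ := by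
        intro h
        rw [h, finrank_bot] at h1
        have := hD.decomp.pos
        omega
      have := spx_nd_two_le _ h2 (hD.nondegenerate _)
      omega
    obtain ⟨rfl, rfl⟩ : t = 2 ∧ k = 2 := spx_arith4 hc ht hk
    exact Or.inr (Or.inl ⟨D, hD, hHD⟩)
  · exact absurd ho heven
  · exact Or.inr (Or.inr (Or.inr (Or.inl ⟨F₀, r, P, ζ, hr, hc, hζ, hrat, hHS⟩)))
  · exact absurd (h6 ▸ h5) heven
  · exact Or.inr (Or.inr (Or.inr (Or.inr (Or.inl ⟨Q, hQ, hpol, hHQ⟩))))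
  · have hd := field_sa_dvd K hK hsa halt
    have hr2 : r = 2 := (Nat.prime_dvd_prime_iff_eq hr Nat.prime_two).mp hd
    subst hr2
    exact Or.inr (Or.inr (Or.inl ⟨K, hK, hsa, halt, hHK⟩))
  · exact absurd ho heven
  · exact absurd ho heven
  · exact absurd ho heven
  · exact Or.inr (Or.inr (Or.inr (Or.inr (Or.inr hres))))

/-- the block dimension of a non-degenerate decomposition is at least two -/
theorem spx_dec_two_le {t k : ℕ} (D : Fin t → Submodule F (Fin m ⊕ Fin m → F))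
    (hD : IsNondegenerateMDecomposition (sympForm m F) k D) : 2 ≤ k ∧ Even k := by
  have ht := hD.decomp.two_le
  have h1 := hD.decomp.finrank_eq ⟨0, by omega⟩
  have h2 : D ⟨0, by omega⟩ ≠ ⊥ := by
    intro h
    rw [h, finrank_bot] at h1
    have := hD.decomp.pos
    omega
  have h3 := spx_nd_two_le _ h2 (hD.nondegenerate _)
  have h4 := nd_even _ (hD.nondegenerate ⟨0, by omega⟩)
  rw [h1] at h3 h4
  exact ⟨h3, h4⟩

/-- `Sp_6(q)` (S5805) -/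
theorem spx6 (hASP : ASPStmt 3 F) (H : Subgroup (GL (Fin 3 ⊕ Fin 3) F)) (hH : IsMaximalIn (spGL 3 F) H) :
    (∃ W : Submodule F (Fin 3 ⊕ Fin 3 → F), W ≠ ⊥ ∧ IsTotallySingularFor (sympForm 3 F) W ∧ H = subspaceStabilizer W ⊓ spGL 3 F) ∨
    (∃ W : Submodule F (Fin 3 ⊕ Fin 3 → F), W ≠ ⊥ ∧ IsNondegenerateOn (sympForm 3 F) W ∧ Module.finrank F W < 3 ∧ H = subspaceStabilizer W ⊓ spGL 3 F) ∨
    (3 ≤ Fintype.card F ∧ ∃ D : Fin 3 → Submodule F (Fin 3 ⊕ Fin 3 → F), IsNondegenerateMDecomposition (sympForm 3 F) 2 D ∧ H = decompositionStabilizer D ⊓ spGL 3 F) ∨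
    (Odd (Fintype.card F) ∧ ∃ D : Fin 2 → Submodule F (Fin 3 ⊕ Fin 3 → F), IsMDecomposition 3 D ∧ (∀ i, IsTotallySingularFor (sympForm 3 F) (D i)) ∧ H = decompositionStabilizer D ⊓ spGL 3 F) ∨
    (∃ K : Subalgebra F (Matrix (Fin 3 ⊕ Fin 3) (Fin 3 ⊕ Fin 3) F), IsFieldSubalgebra 3 K ∧ IsSelfAdjointFor (sympForm 3 F) K ∧ (∀ k ∈ K, ∀ v : (Fin 3 ⊕ Fin 3 → F), (sympForm 3 F) (Matrix.mulVec k v) v = 0) ∧ H = subalgebraNormalizer K ⊓ spGL 3 F) ∨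
    (Odd (Fintype.card F) ∧ ∃ K : Subalgebra F (Matrix (Fin 3 ⊕ Fin 3) (Fin 3 ⊕ Fin 3) F), IsFieldSubalgebra 2 K ∧ IsAdjointClosedFor (sympForm 3 F) K ∧ ¬ IsSelfAdjointFor (sympForm 3 F) K ∧ H = subalgebraNormalizer K ⊓ spGL 3 F) ∨
    (Odd (Fintype.card F) ∧ 5 ≤ Fintype.card F ∧ ∃ (e : (Fin 3 ⊕ Fin 3) ≃ Fin 2 × Fin 3) (P : GL (Fin 3 ⊕ Fin 3) F) (f₁ : (Fin 2 → F) → (Fin 2 → F) → F) (f₂ : (Fin 3 → F) → (Fin 3 → F) → F), IsSymplecticForm f₁ ∧ IsSymmetricForm f₂ ∧ IsTensorFormStructure id (sympForm 3 F) f₁ f₂ e P ∧ H = tensorProductSubgroup 2 3 e P ⊓ spGL 3 F) ∨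
    (∃ (F₀ : Subfield F) (r : ℕ) (P : GL (Fin 3 ⊕ Fin 3) F) (ζ : F), r.Prime ∧ Fintype.card F = Nat.card F₀ ^ r ∧ ζ ≠ 0 ∧ IsFormRationalStructure (sympForm 3 F) F₀ ζ P ∧ H = subfieldSubgroup F₀ P ⊓ spGL 3 F) ∨
    (¬ Odd (Fintype.card F) ∧ ∃ Q : (Fin 3 ⊕ Fin 3 → F) → F, IsNondegenerateQuadraticForm Q ∧ (∀ u v : (Fin 3 ⊕ Fin 3 → F), QuadraticMap.polar Q u v = (sympForm 3 F) u v) ∧ H = quadSimilarityGroup Q ⊓ spGL 3 F) ∨
    InSymplecticResidualClass H := by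
  rcases sp_max (Or.inl (le_refl 3)) hASP hH with ⟨W, h0, hW, hHW⟩ | ⟨W, h0, hW, hd, hHW⟩ | ⟨t, k, D, hD, hHD⟩ |
    ⟨D, ho, hD, hts, hHD⟩ | ⟨F₀, r, P, ζ, hr, hc, hζ, hrat, hHS⟩ | ⟨R, p, k, h1, h2, h3, h4', h5, h6, h7, h8, h9, hle⟩ |
    ⟨Q, he, hQ, hpol, hHQ⟩ | ⟨r, K, hr, hK, hsa, halt, hHK⟩ | ⟨K, ho, hK, hac, hnsa, hHK⟩ |
    ⟨n₁, n₂, e, P, f₁, f₂, ho, h3, hf₁, hf₂, hT, hHT⟩ | ⟨k, t, e, P, f₁, ho, hto, h3, hex, hf₁, hT, hle⟩ | hres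
  · exact Or.inl ⟨W, h0, hW, hHW⟩
  · exact Or.inr (Or.inl ⟨W, h0, hW, hd, hHW⟩)
  · have hc := dec_card D hD.decomp
    have ht := hD.decomp.two_le
    obtain ⟨hk, hke⟩ := spx_dec_two_le D hD
    obtain ⟨rfl, rfl⟩ : t = 3 ∧ k = 2 := spx_arith6 hc ht hk hke
    by_cases hq : 3 ≤ Fintype.card F
    · exact Or.inr (Or.inr (Or.inl ⟨hq, D, hD, hHD⟩))
    · exact Or.inr (Or.inr (Or.inr (Or.inr (Or.inr (Or.inr (Or.inr (Or.inr (Or.inl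
        (spx_planes2 (by norm_num) hH D hD hHD hq)))))))))
  · exact Or.inr (Or.inr (Or.inr (Or.inl ⟨ho, D, hD, hts, hHD⟩)))
  · exact Or.inr (Or.inr (Or.inr (Or.inr (Or.inr (Or.inr (Or.inr (Or.inl
      ⟨F₀, r, P, ζ, hr, hc, hζ, hrat, hHS⟩)))))))
  · exfalso
    obtain ⟨a, ha⟩ := spx_class6_pow (by norm_num) R k h1 h2 h7
    exact (spx_two_pow_ne a).1 ha.symm
  · exact Or.inr (Or.inr (Or.inr (Or.inr (Or.inr (Or.inr (Or.inr (Or.inr (Or.inl ⟨he, Q, hQ, hpol, hHQ⟩))))))))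
  · have hd := field_sa_dvd K hK hsa halt
    have hr3 : r = 3 := (Nat.prime_dvd_prime_iff_eq hr Nat.prime_three).mp hd
    subst hr3
    exact Or.inr (Or.inr (Or.inr (Or.inr (Or.inl ⟨K, hK, hsa, halt, hHK⟩))))
  · exact Or.inr (Or.inr (Or.inr (Or.inr (Or.inr (Or.inl ⟨ho, K, hK, hac, hnsa, hHK⟩)))))
  · have hcard := spx_tensor_card e
    obtain ⟨rfl, rfl⟩ : n₁ = 2 ∧ n₂ = 3 := spx_tarith6 hcard (symp_even f₁ hf₁) h3
    by_cases hq : 5 ≤ Fintype.card F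
    · exact Or.inr (Or.inr (Or.inr (Or.inr (Or.inr (Or.inr (Or.inl
        ⟨ho, hq, e, P, f₁, f₂, hf₁, hf₂, hT, hHT⟩))))))
    · exact Or.inr (Or.inr (Or.inl
        (spx_tensor3 hH (le_refl 2) e P f₁ f₂ hf₁ hf₂ hT hHT ho hq)))
  · exfalso
    have := spx_wreath_card e
    exact (spx_not_pow (k := k) h3).2.1 this.symm
  · exact Or.inr (Or.inr (Or.inr (Or.inr (Or.inr (Or.inr (Or.inr (Or.inr (Or.inr hres))))))))

/-- `Sp_10(q)` (S5844) -/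
theorem spx10 (hASP : ASPStmt 5 F) (H : Subgroup (GL (Fin 5 ⊕ Fin 5) F)) (hH : IsMaximalIn (spGL 5 F) H) :
    (∃ W : Submodule F (Fin 5 ⊕ Fin 5 → F), W ≠ ⊥ ∧ IsTotallySingularFor (sympForm 5 F) W ∧ H = subspaceStabilizer W ⊓ spGL 5 F) ∨
    (∃ W : Submodule F (Fin 5 ⊕ Fin 5 → F), W ≠ ⊥ ∧ IsNondegenerateOn (sympForm 5 F) W ∧ Module.finrank F W < 5 ∧ H = subspaceStabilizer W ⊓ spGL 5 F) ∨
    (3 ≤ Fintype.card F ∧ ∃ D : Fin 5 → Submodule F (Fin 5 ⊕ Fin 5 → F), IsNondegenerateMDecomposition (sympForm 5 F) 2 D ∧ H = decompositionStabilizer D ⊓ spGL 5 F) ∨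
    (Odd (Fintype.card F) ∧ ∃ D : Fin 2 → Submodule F (Fin 5 ⊕ Fin 5 → F), IsMDecomposition 5 D ∧ (∀ i, IsTotallySingularFor (sympForm 5 F) (D i)) ∧ H = decompositionStabilizer D ⊓ spGL 5 F) ∨
    (∃ K : Subalgebra F (Matrix (Fin 5 ⊕ Fin 5) (Fin 5 ⊕ Fin 5) F), IsFieldSubalgebra 5 K ∧ IsSelfAdjointFor (sympForm 5 F) K ∧ (∀ k ∈ K, ∀ v : (Fin 5 ⊕ Fin 5 → F), (sympForm 5 F) (Matrix.mulVec k v) v = 0) ∧ H = subalgebraNormalizer K ⊓ spGL 5 F) ∨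
    (Odd (Fintype.card F) ∧ ∃ K : Subalgebra F (Matrix (Fin 5 ⊕ Fin 5) (Fin 5 ⊕ Fin 5) F), IsFieldSubalgebra 2 K ∧ IsAdjointClosedFor (sympForm 5 F) K ∧ ¬ IsSelfAdjointFor (sympForm 5 F) K ∧ H = subalgebraNormalizer K ⊓ spGL 5 F) ∨
    (Odd (Fintype.card F) ∧ ∃ (e : (Fin 5 ⊕ Fin 5) ≃ Fin 2 × Fin 5) (P : GL (Fin 5 ⊕ Fin 5) F) (f₁ : (Fin 2 → F) → (Fin 2 → F) → F) (f₂ : (Fin 5 → F) → (Fin 5 → F) → F), IsSymplecticForm f₁ ∧ IsSymmetricForm f₂ ∧ IsTensorFormStructure id (sympForm 5 F) f₁ f₂ e P ∧ H = tensorProductSubgroup 2 5 e P ⊓ spGL 5 F) ∨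
    (∃ (F₀ : Subfield F) (r : ℕ) (P : GL (Fin 5 ⊕ Fin 5) F) (ζ : F), r.Prime ∧ Fintype.card F = Nat.card F₀ ^ r ∧ ζ ≠ 0 ∧ IsFormRationalStructure (sympForm 5 F) F₀ ζ P ∧ H = subfieldSubgroup F₀ P ⊓ spGL 5 F) ∨
    (¬ Odd (Fintype.card F) ∧ ∃ Q : (Fin 5 ⊕ Fin 5 → F) → F, IsNondegenerateQuadraticForm Q ∧ (∀ u v : (Fin 5 ⊕ Fin 5 → F), QuadraticMap.polar Q u v = (sympForm 5 F) u v) ∧ H = quadSimilarityGroup Q ⊓ spGL 5 F) ∨
    InSymplecticResidualClass H := by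
  rcases sp_max (Or.inl (by norm_num)) hASP hH with ⟨W, h0, hW, hHW⟩ | ⟨W, h0, hW, hd, hHW⟩ | ⟨t, k, D, hD, hHD⟩ |
    ⟨D, ho, hD, hts, hHD⟩ | ⟨F₀, r, P, ζ, hr, hc, hζ, hrat, hHS⟩ | ⟨R, p, k, h1, h2, h3, h4', h5, h6, h7, h8, h9, hle⟩ |
    ⟨Q, he, hQ, hpol, hHQ⟩ | ⟨r, K, hr, hK, hsa, halt, hHK⟩ | ⟨K, ho, hK, hac, hnsa, hHK⟩ |
    ⟨n₁, n₂, e, P, f₁, f₂, ho, h3, hf₁, hf₂, hT, hHT⟩ | ⟨k, t, e, P, f₁, ho, hto, h3, hex, hf₁, hT, hle⟩ | hres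
  · exact Or.inl ⟨W, h0, hW, hHW⟩
  · exact Or.inr (Or.inl ⟨W, h0, hW, hd, hHW⟩)
  · have hc := dec_card D hD.decomp
    have ht := hD.decomp.two_le
    obtain ⟨hk, hke⟩ := spx_dec_two_le D hD
    obtain ⟨rfl, rfl⟩ : t = 5 ∧ k = 2 := spx_arith10 hc ht hk hke
    by_cases hq : 3 ≤ Fintype.card F
    · exact Or.inr (Or.inr (Or.inl ⟨hq, D, hD, hHD⟩))
    · exact Or.inr (Or.inr (Or.inr (Or.inr (Or.inr (Or.inr (Or.inr (Or.inr (Or.inl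
        (spx_planes2 (by norm_num) hH D hD hHD hq)))))))))
  · exact Or.inr (Or.inr (Or.inr (Or.inl ⟨ho, D, hD, hts, hHD⟩)))
  · exact Or.inr (Or.inr (Or.inr (Or.inr (Or.inr (Or.inr (Or.inr (Or.inl
      ⟨F₀, r, P, ζ, hr, hc, hζ, hrat, hHS⟩)))))))
  · exfalso
    obtain ⟨a, ha⟩ := spx_class6_pow (by norm_num) R k h1 h2 h7
    exact (spx_two_pow_ne a).2.1 ha.symm
  · exact Or.inr (Or.inr (Or.inr (Or.inr (Or.inr (Or.inr (Or.inr (Or.inr (Or.inl ⟨he, Q, hQ, hpol, hHQ⟩))))))))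
  · have hd := field_sa_dvd K hK hsa halt
    have hr5 : r = 5 := (Nat.prime_dvd_prime_iff_eq hr Nat.prime_five).mp hd
    subst hr5
    exact Or.inr (Or.inr (Or.inr (Or.inr (Or.inl ⟨K, hK, hsa, halt, hHK⟩))))
  · exact Or.inr (Or.inr (Or.inr (Or.inr (Or.inr (Or.inl ⟨ho, K, hK, hac, hnsa, hHK⟩)))))
  · have hcard := spx_tensor_card e
    obtain ⟨rfl, rfl⟩ : n₁ = 2 ∧ n₂ = 5 := spx_tarith10 hcard (symp_even f₁ hf₁) h3
    exact Or.inr (Or.inr (Or.inr (Or.inr (Or.inr (Or.inr (Or.inl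
      ⟨ho, e, P, f₁, f₂, hf₁, hf₂, hT, hHT⟩))))))
  · exfalso
    have := spx_wreath_card e
    exact (spx_not_pow (k := k) h3).2.2.1 this.symm
  · exact Or.inr (Or.inr (Or.inr (Or.inr (Or.inr (Or.inr (Or.inr (Or.inr (Or.inr hres))))))))

/-- `Sp_12(q)` (S5868) -/
theorem spx12 (hASP : ASPStmt 6 F) (H : Subgroup (GL (Fin 6 ⊕ Fin 6) F)) (hH : IsMaximalIn (spGL 6 F) H) :
    (∃ W : Submodule F (Fin 6 ⊕ Fin 6 → F), W ≠ ⊥ ∧ IsTotallySingularFor (sympForm 6 F) W ∧ H = subspaceStabilizer W ⊓ spGL 6 F) ∨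
    (∃ W : Submodule F (Fin 6 ⊕ Fin 6 → F), W ≠ ⊥ ∧ IsNondegenerateOn (sympForm 6 F) W ∧ Module.finrank F W < 6 ∧ H = subspaceStabilizer W ⊓ spGL 6 F) ∨
    (3 ≤ Fintype.card F ∧ ∃ D : Fin 6 → Submodule F (Fin 6 ⊕ Fin 6 → F), IsNondegenerateMDecomposition (sympForm 6 F) 2 D ∧ H = decompositionStabilizer D ⊓ spGL 6 F) ∨
    (∃ D : Fin 3 → Submodule F (Fin 6 ⊕ Fin 6 → F), IsNondegenerateMDecomposition (sympForm 6 F) 4 D ∧ H = decompositionStabilizer D ⊓ spGL 6 F) ∨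
    (∃ D : Fin 2 → Submodule F (Fin 6 ⊕ Fin 6 → F), IsNondegenerateMDecomposition (sympForm 6 F) 6 D ∧ H = decompositionStabilizer D ⊓ spGL 6 F) ∨
    (Odd (Fintype.card F) ∧ ∃ D : Fin 2 → Submodule F (Fin 6 ⊕ Fin 6 → F), IsMDecomposition 6 D ∧ (∀ i, IsTotallySingularFor (sympForm 6 F) (D i)) ∧ H = decompositionStabilizer D ⊓ spGL 6 F) ∨
    (∃ K : Subalgebra F (Matrix (Fin 6 ⊕ Fin 6) (Fin 6 ⊕ Fin 6) F), IsFieldSubalgebra 2 K ∧ IsSelfAdjointFor (sympForm 6 F) K ∧ (∀ k ∈ K, ∀ v : (Fin 6 ⊕ Fin 6 → F), (sympForm 6 F) (Matrix.mulVec k v) v = 0) ∧ H = subalgebraNormalizer K ⊓ spGL 6 F) ∨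
    (∃ K : Subalgebra F (Matrix (Fin 6 ⊕ Fin 6) (Fin 6 ⊕ Fin 6) F), IsFieldSubalgebra 3 K ∧ IsSelfAdjointFor (sympForm 6 F) K ∧ (∀ k ∈ K, ∀ v : (Fin 6 ⊕ Fin 6 → F), (sympForm 6 F) (Matrix.mulVec k v) v = 0) ∧ H = subalgebraNormalizer K ⊓ spGL 6 F) ∨
    (Odd (Fintype.card F) ∧ ∃ K : Subalgebra F (Matrix (Fin 6 ⊕ Fin 6) (Fin 6 ⊕ Fin 6) F), IsFieldSubalgebra 2 K ∧ IsAdjointClosedFor (sympForm 6 F) K ∧ ¬ IsSelfAdjointFor (sympForm 6 F) K ∧ H = subalgebraNormalizer K ⊓ spGL 6 F) ∨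
    (Odd (Fintype.card F) ∧ ∃ (e : (Fin 6 ⊕ Fin 6) ≃ Fin 2 × Fin 6) (P : GL (Fin 6 ⊕ Fin 6) F) (f₁ : (Fin 2 → F) → (Fin 2 → F) → F) (f₂ : (Fin 6 → F) → (Fin 6 → F) → F), IsSymplecticForm f₁ ∧ IsSymmetricForm f₂ ∧ IsTensorFormStructure id (sympForm 6 F) f₁ f₂ e P ∧ H = tensorProductSubgroup 2 6 e P ⊓ spGL 6 F) ∨
    (Odd (Fintype.card F) ∧ 5 ≤ Fintype.card F ∧ ∃ (e : (Fin 6 ⊕ Fin 6) ≃ Fin 4 × Fin 3) (P : GL (Fin 6 ⊕ Fin 6) F) (f₁ : (Fin 4 → F) → (Fin 4 → F) → F) (f₂ : (Fin 3 → F) → (Fin 3 → F) → F), IsSymplecticForm f₁ ∧ IsSymmetricForm f₂ ∧ IsTensorFormStructure id (sympForm 6 F) f₁ f₂ e P ∧ H = tensorProductSubgroup 4 3 e P ⊓ spGL 6 F) ∨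
    (∃ (F₀ : Subfield F) (r : ℕ) (P : GL (Fin 6 ⊕ Fin 6) F) (ζ : F), r.Prime ∧ Fintype.card F = Nat.card F₀ ^ r ∧ ζ ≠ 0 ∧ IsFormRationalStructure (sympForm 6 F) F₀ ζ P ∧ H = subfieldSubgroup F₀ P ⊓ spGL 6 F) ∨
    (¬ Odd (Fintype.card F) ∧ ∃ Q : (Fin 6 ⊕ Fin 6 → F) → F, IsNondegenerateQuadraticForm Q ∧ (∀ u v : (Fin 6 ⊕ Fin 6 → F), QuadraticMap.polar Q u v = (sympForm 6 F) u v) ∧ H = quadSimilarityGroup Q ⊓ spGL 6 F) ∨
    InSymplecticResidualClass H := by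
  rcases sp_max (Or.inl (by norm_num)) hASP hH with ⟨W, h0, hW, hHW⟩ | ⟨W, h0, hW, hd, hHW⟩ | ⟨t, k, D, hD, hHD⟩ |
    ⟨D, ho, hD, hts, hHD⟩ | ⟨F₀, r, P, ζ, hr, hc, hζ, hrat, hHS⟩ | ⟨R, p, k, h1, h2, h3, h4', h5, h6, h7, h8, h9, hle⟩ |
    ⟨Q, he, hQ, hpol, hHQ⟩ | ⟨r, K, hr, hK, hsa, halt, hHK⟩ | ⟨K, ho, hK, hac, hnsa, hHK⟩ |
    ⟨n₁, n₂, e, P, f₁, f₂, ho, h3, hf₁, hf₂, hT, hHT⟩ | ⟨k, t, e, P, f₁, ho, hto, h3, hex, hf₁, hT, hle⟩ | hres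
  · exact Or.inl ⟨W, h0, hW, hHW⟩
  · exact Or.inr (Or.inl ⟨W, h0, hW, hd, hHW⟩)
  · have hc := dec_card D hD.decomp
    have ht := hD.decomp.two_le
    obtain ⟨hk, hke⟩ := spx_dec_two_le D hD
    rcases spx_arith12 hc ht hk hke with ⟨rfl, rfl⟩ | ⟨rfl, rfl⟩ | ⟨rfl, rfl⟩
    · by_cases hq : 3 ≤ Fintype.card F
      · exact Or.inr (Or.inr (Or.inl ⟨hq, D, hD, hHD⟩))
      · exact Or.inr (Or.inr (Or.inr (Or.inr (Or.inr (Or.inr (Or.inr (Or.inr (Or.inr (Or.inr (Or.inr (Or.inr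
          (Or.inl (spx_planes2 (by norm_num) hH D hD hHD hq)))))))))))))
    · exact Or.inr (Or.inr (Or.inr (Or.inl ⟨D, hD, hHD⟩)))
    · exact Or.inr (Or.inr (Or.inr (Or.inr (Or.inl ⟨D, hD, hHD⟩))))
  · exact Or.inr (Or.inr (Or.inr (Or.inr (Or.inr (Or.inl ⟨ho, D, hD, hts, hHD⟩)))))
  · exact Or.inr (Or.inr (Or.inr (Or.inr (Or.inr (Or.inr (Or.inr (Or.inr (Or.inr (Or.inr (Or.inr (Or.inl
      ⟨F₀, r, P, ζ, hr, hc, hζ, hrat, hHS⟩)))))))))))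
  · exfalso
    obtain ⟨a, ha⟩ := spx_class6_pow (by norm_num) R k h1 h2 h7
    exact (spx_two_pow_ne a).2.2 ha.symm
  · exact Or.inr (Or.inr (Or.inr (Or.inr (Or.inr (Or.inr (Or.inr (Or.inr (Or.inr (Or.inr (Or.inr (Or.inr
      (Or.inl ⟨he, Q, hQ, hpol, hHQ⟩))))))))))))
  · have hd := field_sa_dvd K hK hsa halt
    have hr23 : r = 2 ∨ r = 3 := by
      have h6 : r ∣ 2 * 3 := hd
      rcases (Nat.Prime.dvd_mul hr).mp h6 with h | h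
      · exact Or.inl ((Nat.prime_dvd_prime_iff_eq hr Nat.prime_two).mp h)
      · exact Or.inr ((Nat.prime_dvd_prime_iff_eq hr Nat.prime_three).mp h)
    rcases hr23 with rfl | rfl
    · exact Or.inr (Or.inr (Or.inr (Or.inr (Or.inr (Or.inr (Or.inl ⟨K, hK, hsa, halt, hHK⟩))))))
    · exact Or.inr (Or.inr (Or.inr (Or.inr (Or.inr (Or.inr (Or.inr (Or.inl ⟨K, hK, hsa, halt, hHK⟩)))))))
  · exact Or.inr (Or.inr (Or.inr (Or.inr (Or.inr (Or.inr (Or.inr (Or.inr (Or.inl ⟨ho, K, hK, hac, hnsa, hHK⟩))))))))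
  · have hcard := spx_tensor_card e
    rcases spx_tarith12 hcard (symp_even f₁ hf₁) h3 with ⟨rfl, rfl⟩ | ⟨rfl, rfl⟩
    · exact Or.inr (Or.inr (Or.inr (Or.inr (Or.inr (Or.inr (Or.inr (Or.inr (Or.inr (Or.inl
        ⟨ho, e, P, f₁, f₂, hf₁, hf₂, hT, hHT⟩)))))))))
    · by_cases hq : 5 ≤ Fintype.card F
      · exact Or.inr (Or.inr (Or.inr (Or.inr (Or.inr (Or.inr (Or.inr (Or.inr (Or.inr (Or.inr (Or.inl
          ⟨ho, hq, e, P, f₁, f₂, hf₁, hf₂, hT, hHT⟩))))))))))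
      · exact Or.inr (Or.inr (Or.inr (Or.inl
          (spx_tensor3 hH (by norm_num) e P f₁ f₂ hf₁ hf₂ hT hHT ho hq).2)))
  · exfalso
    have := spx_wreath_card e
    exact (spx_not_pow (k := k) h3).2.2.2 this.symm
  · exact Or.inr (Or.inr (Or.inr (Or.inr (Or.inr (Or.inr (Or.inr (Or.inr (Or.inr (Or.inr (Or.inr (Or.inr
      (Or.inr hres))))))))))))

end Cfsg.Agent.Lib.helper6.SPX
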