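import Cfsg.Agent.Lib.helper6.SPX.Main
import Cfsg.Agent.Lib.Helper1.SPXPR6
import Cfsg.Agent.Lib.Helper1.SPXPR7
import Cfsg.Agent.Lib.Helper1.SPXC6ORD
import Cfsg.Agent.Lib.Helper1.SPXT24P

/-!
# Project SPX, phase 2a : common lemmas and the assembly of `Sp_8(q)` (S5823)
-/

set_option autoImplicit false
set_option linter.unusedVariables false
set_option linter.unusedSectionVars false

namespace Cfsg.Agent.Lib.helper6.SPX

open Cfsg Cfsg.Geo Cfsg.Agent.Lib.Helper27.ASC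
open scoped MatrixGroups Matrix Kronecker

variable {m : ℕ} {F : Type*} [Field F] [Fintype F]

/-- an odd field order is at least 3 -/
theorem spx_odd_three_le (ho : Odd (Fintype.card F)) : 3 ≤ Fintype.card F := by
  have h1 : 1 < Fintype.card F := Fintype.one_lt_card
  obtain ⟨a, ha⟩ := ho
  omega

/-- class 6: equality with the normaliser, and the order -/
theorem spx_class6 (hm : 2 ≤ m) (ho : Odd (Fintype.card F)) {H : Subgroup (GL (Fin m ⊕ Fin m) F)}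
    (hH : IsMaximalIn (spGL m F) H) (R : Subgroup (GL (Fin m ⊕ Fin m) F)) (k : ℕ) (h1 : IsSymplecticTypeGroup 2 R)
    (h2 : ActsAbsolutelyIrreducibly (matrixSet R)) (h3 : R ≤ similarityGroup (sympForm m F))
    (h7 : Nat.card R = 2 ^ (1 + 2 * k)) (h8 : Nat.card (Subgroup.center R) = 2)
    (hle : H ≤ subgroupNormalizer R ⊓ spGL m F) :
    H = subgroupNormalizer R ⊓ spGL m F ∧ Nat.card R = (2 * m) ^ 2 * 2 := by
  have hex : ¬ (m = 2 ∧ Fintype.card F = 2) := by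
    rintro ⟨_, h⟩
    rw [h] at ho
    exact absurd ho (by decide)
  exact ⟨max_principle hH (hle.trans inf_le_left) (pr_sp_sympl hm hex ho R h1.pGroup h2 h3),
    (class6_order R k h1 h2 h7 h8).symm⟩

theorem spx_arith8 {t k : ℕ} (hc : t * k = 2 * 4) (ht : 2 ≤ t) (hk : 2 ≤ k) (he : Even k) :
    (t = 4 ∧ k = 2) ∨ (t = 2 ∧ k = 4) := by
  obtain ⟨h1, h2⟩ := spx_arith (by norm_num) hc
  interval_cases k <;> interval_cases t <;> simp_all (config := { decide := true })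

theorem spx_tarith8 {n₁ n₂ : ℕ} (hc : 2 * 4 = n₁ * n₂) (he : Even n₁) (h3 : 3 ≤ n₂) : n₁ = 2 ∧ n₂ = 4 := by
  obtain ⟨h1, h2⟩ := spx_arith (by norm_num) hc.symm
  interval_cases n₂ <;> interval_cases n₁ <;> simp_all (config := { decide := true })

/-- `k ^ t = 8` with `t ≥ 3` forces `k = 2`, `t = 3` -/
theorem spx_pow8 {k t : ℕ} (ht : 3 ≤ t) (h : k ^ t = 8) : k = 2 ∧ t = 3 := by
  rcases Nat.lt_or_ge k 2 with hk | hk
  · interval_cases k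
    · rw [zero_pow (by omega)] at h; omega
    · rw [one_pow] at h; omega
  · rcases Nat.lt_or_ge k 3 with hk3 | hk3
    · have hk2 : k = 2 := by omega
      subst hk2
      refine ⟨rfl, ?_⟩
      rcases Nat.lt_or_ge t 4 with h4 | h4
      · omega
      · have : 2 ^ 4 ≤ 2 ^ t := Nat.pow_le_pow_right (by norm_num) h4
        omega
    · have h1 : 3 ^ 3 ≤ k ^ 3 := Nat.pow_le_pow_left hk3 3
      have h2 : k ^ 3 ≤ k ^ t := Nat.pow_le_pow_right (by omega) ht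
      omega

/-- `Sp_8(q)` (S5823) -/
theorem spx8 (hASP : ASPStmt 4 F) (H : Subgroup (GL (Fin 4 ⊕ Fin 4) F)) (hH : IsMaximalIn (spGL 4 F) H) :
    (∃ W : Submodule F (Fin 4 ⊕ Fin 4 → F), W ≠ ⊥ ∧ IsTotallySingularFor (sympForm 4 F) W ∧ H = subspaceStabilizer W ⊓ spGL 4 F) ∨
    (∃ W : Submodule F (Fin 4 ⊕ Fin 4 → F), W ≠ ⊥ ∧ IsNondegenerateOn (sympForm 4 F) W ∧ Module.finrank F W < 4 ∧ H = subspaceStabilizer W ⊓ spGL 4 F) ∨
    (3 ≤ Fintype.card F ∧ ∃ D : Fin 4 → Submodule F (Fin 4 ⊕ Fin 4 → F), IsNondegenerateMDecomposition (sympForm 4 F) 2 D ∧ H = decompositionStabilizer D ⊓ spGL 4 F) ∨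
    (∃ D : Fin 2 → Submodule F (Fin 4 ⊕ Fin 4 → F), IsNondegenerateMDecomposition (sympForm 4 F) 4 D ∧ H = decompositionStabilizer D ⊓ spGL 4 F) ∨
    (Odd (Fintype.card F) ∧ ∃ D : Fin 2 → Submodule F (Fin 4 ⊕ Fin 4 → F), IsMDecomposition 4 D ∧ (∀ i, IsTotallySingularFor (sympForm 4 F) (D i)) ∧ H = decompositionStabilizer D ⊓ spGL 4 F) ∨
    (∃ K : Subalgebra F (Matrix (Fin 4 ⊕ Fin 4) (Fin 4 ⊕ Fin 4) F), IsFieldSubalgebra 2 K ∧ IsSelfAdjointFor (sympForm 4 F) K ∧ (∀ k ∈ K, ∀ v : (Fin 4 ⊕ Fin 4 → F), (sympForm 4 F) (Matrix.mulVec k v) v = 0) ∧ H = subalgebraNormalizer K ⊓ spGL 4 F) ∨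
    (Odd (Fintype.card F) ∧ ∃ K : Subalgebra F (Matrix (Fin 4 ⊕ Fin 4) (Fin 4 ⊕ Fin 4) F), IsFieldSubalgebra 2 K ∧ IsAdjointClosedFor (sympForm 4 F) K ∧ ¬ IsSelfAdjointFor (sympForm 4 F) K ∧ H = subalgebraNormalizer K ⊓ spGL 4 F) ∨
    (Odd (Fintype.card F) ∧ ∃ (e : (Fin 4 ⊕ Fin 4) ≃ Fin 2 × Fin 4) (P : GL (Fin 4 ⊕ Fin 4) F) (f₁ : (Fin 2 → F) → (Fin 2 → F) → F) (f₂ : (Fin 4 → F) → (Fin 4 → F) → F), IsSymplecticForm f₁ ∧ IsSymmetricForm f₂ ∧ ¬ IsPlusTypeOn (fun v : Fin 4 → F => f₂ v v) ⊤ ∧ IsTensorFormStructure id (sympForm 4 F) f₁ f₂ e P ∧ H = tensorProductSubgroup 2 4 e P ⊓ spGL 4 F) ∨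
    (∃ (F₀ : Subfield F) (r : ℕ) (P : GL (Fin 4 ⊕ Fin 4) F) (ζ : F), r.Prime ∧ Fintype.card F = Nat.card F₀ ^ r ∧ ζ ≠ 0 ∧ IsFormRationalStructure (sympForm 4 F) F₀ ζ P ∧ H = subfieldSubgroup F₀ P ⊓ spGL 4 F) ∨
    (∃ (p : ℕ) (R : Subgroup (GL (Fin 4 ⊕ Fin 4) F)), p.Prime ∧ Odd p ∧ Fintype.card F = p ∧ IsSymplecticTypeGroup 2 R ∧ ActsAbsolutelyIrreducibly (matrixSet R) ∧ R ≤ similarityGroup (sympForm 4 F) ∧ Nat.card R = 128 ∧ Nat.card (Subgroup.center R) = 2 ∧ IsOfMinusType 3 R ∧ H = subgroupNormalizer R ⊓ spGL 4 F) ∨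
    (Odd (Fintype.card F) ∧ 5 ≤ Fintype.card F ∧ ∃ (e : (Fin 4 ⊕ Fin 4) ≃ (Fin 3 → Fin 2)) (P : GL (Fin 4 ⊕ Fin 4) F) (f₁ : (Fin 2 → F) → (Fin 2 → F) → F), IsSymplecticForm f₁ ∧ IsTensorPowerFormStructure id (sympForm 4 F) f₁ e P ∧ H = tensorWreathSubgroup 2 3 e P ⊓ spGL 4 F) ∨
    (¬ Odd (Fintype.card F) ∧ ∃ Q : (Fin 4 ⊕ Fin 4 → F) → F, IsNondegenerateQuadraticForm Q ∧ (∀ u v : (Fin 4 ⊕ Fin 4 → F), QuadraticMap.polar Q u v = (sympForm 4 F) u v) ∧ H = quadSimilarityGroup Q ⊓ spGL 4 F) ∨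
    InSymplecticResidualClass H := by
  rcases sp_max (Or.inl (by norm_num)) hASP hH with ⟨W, h0, hW, hHW⟩ | ⟨W, h0, hW, hd, hHW⟩ | ⟨t, k, D, hD, hHD⟩ |
    ⟨D, ho, hD, hts, hHD⟩ | ⟨F₀, r, P, ζ, hr, hc, hζ, hrat, hHS⟩ | ⟨R, p, k, h1, h2, h3, h4', h5, h6, h7, h8, h9, hle⟩ |
    ⟨Q, he, hQ, hpol, hHQ⟩ | ⟨r, K, hr, hK, hsa, halt, hHK⟩ | ⟨K, ho, hK, hac, hnsa, hHK⟩ |
    ⟨n₁, n₂, e, P, f₁, f₂, ho, h3, hf₁, hf₂, hT, hHT⟩ | ⟨k, t, e, P, f₁, ho, hto, h3, hex, hf₁, hT, hle⟩ | hres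
  · exact Or.inl ⟨W, h0, hW, hHW⟩
  · exact Or.inr (Or.inl ⟨W, h0, hW, hd, hHW⟩)
  · have hc := dec_card D hD.decomp
    have ht := hD.decomp.two_le
    obtain ⟨hk, hke⟩ := spx_dec_two_le D hD
    rcases spx_arith8 hc ht hk hke with ⟨rfl, rfl⟩ | ⟨rfl, rfl⟩
    · by_cases hq : 3 ≤ Fintype.card F
      · exact Or.inr (Or.inr (Or.inl ⟨hq, D, hD, hHD⟩))
      · exact Or.inr (Or.inr (Or.inr (Or.inr (Or.inr (Or.inr (Or.inr (Or.inr (Or.inr (Or.inr (Or.inr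
          (Or.inl (spx_planes2 (by norm_num) hH D hD hHD hq))))))))))))
    · exact Or.inr (Or.inr (Or.inr (Or.inl ⟨D, hD, hHD⟩)))
  · exact Or.inr (Or.inr (Or.inr (Or.inr (Or.inl ⟨ho, D, hD, hts, hHD⟩))))
  · exact Or.inr (Or.inr (Or.inr (Or.inr (Or.inr (Or.inr (Or.inr (Or.inr (Or.inl
      ⟨F₀, r, P, ζ, hr, hc, hζ, hrat, hHS⟩))))))))
  · have hodd : Odd (Fintype.card F) := h6 ▸ h5
    obtain ⟨hHR, hcard⟩ := spx_class6 (by norm_num) hodd hH R k h1 h2 h3 h7 h8 hle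
    have hk3 : k = 3 := by
      rw [h7] at hcard
      have h128 : (2 : ℕ) ^ (1 + 2 * k) = 2 ^ 7 := by rw [hcard]; norm_num
      have := Nat.pow_right_injective (le_refl 2) h128
      omega
    subst hk3
    exact Or.inr (Or.inr (Or.inr (Or.inr (Or.inr (Or.inr (Or.inr (Or.inr (Or.inr (Or.inl
      ⟨p, R, h4', h5, h6, h1, h2, h3, by rw [hcard]; norm_num, h8, h9, hHR⟩)))))))))
  · exact Or.inr (Or.inr (Or.inr (Or.inr (Or.inr (Or.inr (Or.inr (Or.inr (Or.inr (Or.inr (Or.inr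
      (Or.inl ⟨he, Q, hQ, hpol, hHQ⟩)))))))))))
  · have hd := field_sa_dvd K hK hsa halt
    have hr2 : r = 2 := by
      have h4 : r ∣ 2 * 2 := hd
      rcases (Nat.Prime.dvd_mul hr).mp h4 with h | h <;>
        exact (Nat.prime_dvd_prime_iff_eq hr Nat.prime_two).mp h
    subst hr2
    exact Or.inr (Or.inr (Or.inr (Or.inr (Or.inr (Or.inl ⟨K, hK, hsa, halt, hHK⟩)))))
  · exact Or.inr (Or.inr (Or.inr (Or.inr (Or.inr (Or.inr (Or.inl ⟨ho, K, hK, hac, hnsa, hHK⟩))))))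
  · obtain ⟨rfl, rfl⟩ := spx_tarith8 (spx_tensor_card e) (symp_even f₁ hf₁) h3
    by_cases hplus : IsPlusTypeOn (fun v : Fin 4 → F => f₂ v v) ⊤
    · obtain ⟨e', P', f₁', hf₁', hT', hle, hnle⟩ := tensor24_plus ho e P f₁ f₂ hf₁ hf₂ hplus hT
      have hHW : H = tensorWreathSubgroup 2 3 e' P' ⊓ spGL 4 F :=
        max_principle hH (hHT ▸ hle) (pr_sp_wreath (le_refl 2) (le_refl 3) e' P')
      by_cases hq : 5 ≤ Fintype.card F
      · exact Or.inr (Or.inr (Or.inr (Or.inr (Or.inr (Or.inr (Or.inr (Or.inr (Or.inr (Or.inr (Or.inl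
          ⟨ho, hq, e', P', f₁', hf₁', hT', hHW⟩))))))))))
      · exfalso
        apply hnle
        rw [← hHW, hHT]
        exact inf_le_left
    · exact Or.inr (Or.inr (Or.inr (Or.inr (Or.inr (Or.inr (Or.inr (Or.inl
        ⟨ho, e, P, f₁, f₂, hf₁, hf₂, hplus, hT, hHT⟩)))))))
  · obtain ⟨rfl, rfl⟩ := spx_pow8 h3 (spx_wreath_card e).symm
    have hq : 5 ≤ Fintype.card F := by
      by_contra hq
      exact hex ⟨spx_card_three ho hq, rfl⟩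
    exact Or.inr (Or.inr (Or.inr (Or.inr (Or.inr (Or.inr (Or.inr (Or.inr (Or.inr (Or.inr (Or.inl
      ⟨ho, hq, e, P, f₁, hf₁, hT, max_principle hH (hle.trans inf_le_left)
        (pr_sp_wreath (le_refl 2) (le_refl 3) e P)⟩))))))))))
  · exact Or.inr (Or.inr (Or.inr (Or.inr (Or.inr (Or.inr (Or.inr (Or.inr (Or.inr (Or.inr (Or.inr
      (Or.inr hres)))))))))))

end Cfsg.Agent.Lib.helper6.SPX
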