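import Cfsg.Agent.Lib.helper6.SPX.Main2a
import Cfsg.Agent.Lib.Helper21.SPXTS3
import Cfsg.Agent.Lib.helper6.SPXU3

/-!
# Project SPX, phase 2b : the assembly of `Sp_4(q)`, `q` odd (S5787)
-/

set_option autoImplicit false
set_option linter.unusedVariables false
set_option linter.unusedSectionVars false

namespace Cfsg.Agent.Lib.helper6.SPX

open Cfsg Cfsg.Geo Cfsg.Agent.Lib.Helper27.ASC
open scoped MatrixGroups Matrix Kronecker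

variable {m : ℕ} {F : Type*} [Field F] [Fintype F]

/-- `Sp_4(q)`, `q` odd (S5787) -/
theorem spx4o (hASP : ASPStmt 2 F) (hodd : Odd (Fintype.card F))
    (H : Subgroup (GL (Fin 2 ⊕ Fin 2) F)) (hH : IsMaximalIn (spGL 2 F) H) :
    (∃ W : Submodule F (Fin 2 ⊕ Fin 2 → F), W ≠ ⊥ ∧ IsTotallySingularFor (sympForm 2 F) W ∧ H = subspaceStabilizer W ⊓ spGL 2 F) ∨
    (∃ D : Fin 2 → Submodule F (Fin 2 ⊕ Fin 2 → F), IsNondegenerateMDecomposition (sympForm 2 F) 2 D ∧ H = decompositionStabilizer D ⊓ spGL 2 F) ∨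
    (5 ≤ Fintype.card F ∧ ∃ D : Fin 2 → Submodule F (Fin 2 ⊕ Fin 2 → F), IsMDecomposition 2 D ∧ (∀ i, IsTotallySingularFor (sympForm 2 F) (D i)) ∧ H = decompositionStabilizer D ⊓ spGL 2 F) ∨
    (∃ K : Subalgebra F (Matrix (Fin 2 ⊕ Fin 2) (Fin 2 ⊕ Fin 2) F), IsFieldSubalgebra 2 K ∧ IsSelfAdjointFor (sympForm 2 F) K ∧ (∀ k ∈ K, ∀ v : (Fin 2 ⊕ Fin 2 → F), (sympForm 2 F) (Matrix.mulVec k v) v = 0) ∧ H = subalgebraNormalizer K ⊓ spGL 2 F) ∨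
    (5 ≤ Fintype.card F ∧ ∃ K : Subalgebra F (Matrix (Fin 2 ⊕ Fin 2) (Fin 2 ⊕ Fin 2) F), IsFieldSubalgebra 2 K ∧ IsAdjointClosedFor (sympForm 2 F) K ∧ ¬ IsSelfAdjointFor (sympForm 2 F) K ∧ H = subalgebraNormalizer K ⊓ spGL 2 F) ∨
    (∃ (F₀ : Subfield F) (r : ℕ) (P : GL (Fin 2 ⊕ Fin 2) F) (ζ : F), r.Prime ∧ Fintype.card F = Nat.card F₀ ^ r ∧ ζ ≠ 0 ∧ IsFormRationalStructure (sympForm 2 F) F₀ ζ P ∧ H = subfieldSubgroup F₀ P ⊓ spGL 2 F) ∨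
    (∃ (p : ℕ) (R : Subgroup (GL (Fin 2 ⊕ Fin 2) F)), p.Prime ∧ Fintype.card F = p ∧ IsSymplecticTypeGroup 2 R ∧ ActsAbsolutelyIrreducibly (matrixSet R) ∧ R ≤ similarityGroup (sympForm 2 F) ∧ Nat.card R = 32 ∧ Nat.card (Subgroup.center R) = 2 ∧ IsOfMinusType 2 R ∧ H = subgroupNormalizer R ⊓ spGL 2 F) ∨
    InSymplecticResidualClass H := by
  have hq3 := spx_odd_three_le hodd
  rcases sp_max (Or.inr ⟨rfl, hq3⟩) hASP hH with ⟨W, h0, hW, hHW⟩ | ⟨W, h0, hW, hd, hHW⟩ | ⟨t, k, D, hD, hHD⟩ |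
    ⟨D, ho, hD, hts, hHD⟩ | ⟨F₀, r, P, ζ, hr, hc, hζ, hrat, hHS⟩ | ⟨R, p, k, h1, h2, h3, h4', h5, h6, h7, h8, h9, hle⟩ |
    ⟨Q, he, hQ, hpol, hHQ⟩ | ⟨r, K, hr, hK, hsa, halt, hHK⟩ | ⟨K, ho, hK, hac, hnsa, hHK⟩ |
    ⟨n₁, n₂, e, P, f₁, f₂, ho, h3, hf₁, hf₂, hT, hHT⟩ | ⟨k, t, e, P, f₁, ho, hto, h3, hex, hf₁, hT, hle⟩ | hres
  · exact Or.inl ⟨W, h0, hW, hHW⟩
  · have := spx_nd_two_le W h0 hW
    omega
  · have hc := dec_card D hD.decomp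
    have ht := hD.decomp.two_le
    obtain ⟨hk, hke⟩ := spx_dec_two_le D hD
    obtain ⟨rfl, rfl⟩ : t = 2 ∧ k = 2 := spx_arith4 hc ht hk
    exact Or.inr (Or.inl ⟨D, hD, hHD⟩)
  · by_cases hq : 5 ≤ Fintype.card F
    · exact Or.inr (Or.inr (Or.inl ⟨hq, D, hD, hts, hHD⟩))
    · have hc3 := spx_card_three ho hq
      obtain ⟨D', hD', hle⟩ := tspair_q3_dec hc3 D hD hts
      exact Or.inr (Or.inl ⟨D', hD', max_principle hH (hHD ▸ hle) (pr_sp_dec D' hD'.decomp (by norm_num))⟩)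
  · exact Or.inr (Or.inr (Or.inr (Or.inr (Or.inr (Or.inl ⟨F₀, r, P, ζ, hr, hc, hζ, hrat, hHS⟩)))))
  · obtain ⟨hHR, hcard⟩ := spx_class6 (by norm_num) hodd hH R k h1 h2 h3 h7 h8 hle
    have hk2 : k = 2 := by
      rw [h7] at hcard
      have h32 : (2 : ℕ) ^ (1 + 2 * k) = 2 ^ 5 := by rw [hcard]; norm_num
      have := Nat.pow_right_injective (le_refl 2) h32
      omega
    subst hk2
    exact Or.inr (Or.inr (Or.inr (Or.inr (Or.inr (Or.inr (Or.inl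
      ⟨p, R, h4', h6, h1, h2, h3, by rw [hcard]; norm_num, h8, h9, hHR⟩))))))
  · exact absurd hodd he
  · have hd := field_sa_dvd K hK hsa halt
    have hr2 : r = 2 := (Nat.prime_dvd_prime_iff_eq hr Nat.prime_two).mp hd
    subst hr2
    exact Or.inr (Or.inr (Or.inr (Or.inl ⟨K, hK, hsa, halt, hHK⟩)))
  · by_cases hq : 5 ≤ Fintype.card F
    · exact Or.inr (Or.inr (Or.inr (Or.inr (Or.inl ⟨hq, K, hK, hac, hnsa, hHK⟩))))
    · have hc3 := spx_card_three ho hq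
      exact absurd (hHK ▸ hH) (field_q3_not_max hc3 K hK hac hnsa)
  · exact (spx_tarith4 (spx_tensor_card e) (symp_even f₁ hf₁) h3).elim
  · exfalso
    have := spx_wreath_card e
    exact (spx_not_pow (k := k) h3).1 this.symm
  · exact Or.inr (Or.inr (Or.inr (Or.inr (Or.inr (Or.inr (Or.inr hres))))))

end Cfsg.Agent.Lib.helper6.SPX
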